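import Mathlib
import Cfsg.Prelude.Def_KGroupFacts
import Cfsg.Agent.Helper43.PsuM.RDefs
import Cfsg.Agent.Helper37.SU3InvA
import Cfsg.Agent.Helper45.GUBasic

/-!
# S2089 block A (`n = 3`): definitions for the `p'`-part of the Schur multiplier of `SU_3(q)`

Model: the frozen `Cfsg.SU 3 F q` (orthonormal hermitian form), `|F| = q ^ 2`,
`bar : F →+* F` the `q`-power map.

* `ptH bar hbar`: the image of `GU_2(q)` under helper37's block embedding `beta` (the stabiliser of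
  the point `⟨e₂⟩`), `ptL bar hbar`: the image of the matrices of determinant one (a copy of
  `SU_2(q)`).
* `nrm F q`: the elements of `Fˣ` of norm one, `dgHom bar hbar`: `(a, b) ↦ diag(a, b, (ab)⁻¹)`,
  `torus bar hbar` its range, `w01, w12, cyc`: signed permutation matrices in `SU_3(q)`,
  `monoP bar hbar = torus ⊔ ⟨cyc⟩`.
-/

set_option autoImplicit false

namespace Cfsg.Agent.Helper71.PsuA

open Matrix Cfsg.Agent.Helper37.SU3Inv

variable {F : Type*} [Field F] {q : ℕ} (bar : F →+* F) (hbar : ∀ x, bar x = x ^ q)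

/-- the determinant on `GU_2(q)` -/
noncomputable def detGU : ↥(Cfsg.GU 2 F q) →* Fˣ :=
  Matrix.GeneralLinearGroup.det.comp (Cfsg.GU 2 F q).subtype

/-- the image of `GU_2(q)` in `SU_3(q)` -/
noncomputable def ptH : Subgroup ↥(Cfsg.SU 3 F q) := (beta bar hbar).range

/-- the image of `SU_2(q)` (determinant one matrices of `GU_2(q)`) in `SU_3(q)` -/
noncomputable def ptL : Subgroup ↥(Cfsg.SU 3 F q) :=
  (detGU (F := F) (q := q)).ker.map (beta bar hbar)

/-- the norm one elements of `Fˣ` -/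
def nrm (F : Type*) [Field F] (q : ℕ) : Subgroup Fˣ := (powMonoidHom (q + 1) : Fˣ →* Fˣ).ker

theorem mem_nrm {a : Fˣ} : a ∈ nrm F q ↔ a ^ (q + 1) = 1 := by
  rw [nrm, MonoidHom.mem_ker, powMonoidHom_apply]

/-- the diagonal matrix `diag(a, b, c)` -/
def dgM (a b c : F) : Matrix (Fin 3) (Fin 3) F := !![a, 0, 0; 0, b, 0; 0, 0, c]

theorem dgM_mul (a b c a' b' c' : F) : dgM a b c * dgM a' b' c' = dgM (a * a') (b * b') (c * c') := by
  ext i j
  fin_cases i <;> fin_cases j <;> simp [dgM, Matrix.mul_apply, Fin.sum_univ_three]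

theorem dgM_one : dgM (1 : F) 1 1 = 1 := by
  ext i j
  fin_cases i <;> fin_cases j <;> simp [dgM]

theorem det_dgM (a b c : F) : (dgM a b c).det = a * b * c := by
  rw [Matrix.det_fin_three]
  simp [dgM]

theorem isU_dgM (a b c : F) (ha : a * bar a = 1) (hb : b * bar b = 1) (hc : c * bar c = 1) :
    IsU bar (dgM a b c) := by
  unfold IsU
  ext i j
  fin_cases i <;> fin_cases j <;> simp [dgM, Matrix.mul_apply, Fin.sum_univ_three, ha, hb, hc]

/-- `-(permutation matrix of (0 1))` -/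
def w01M : Matrix (Fin 3) (Fin 3) F := !![0, -1, 0; -1, 0, 0; 0, 0, -1]

/-- `-(permutation matrix of (1 2))` -/
def w12M : Matrix (Fin 3) (Fin 3) F := !![-1, 0, 0; 0, 0, -1; 0, -1, 0]

/-- the permutation matrix of a `3`-cycle, `cycM = w01M * w12M` -/
def cycM : Matrix (Fin 3) (Fin 3) F := !![0, 0, 1; 1, 0, 0; 0, 1, 0]

theorem w01M_mul_w12M : (w01M : Matrix (Fin 3) (Fin 3) F) * w12M = cycM := by
  ext i j
  fin_cases i <;> fin_cases j <;> simp [w01M, w12M, cycM, Matrix.mul_apply, Fin.sum_univ_three]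

theorem w01M_sq : (w01M : Matrix (Fin 3) (Fin 3) F) * w01M = 1 := by
  ext i j
  fin_cases i <;> fin_cases j <;> simp [w01M, Matrix.mul_apply, Fin.sum_univ_three]

theorem w12M_sq : (w12M : Matrix (Fin 3) (Fin 3) F) * w12M = 1 := by
  ext i j
  fin_cases i <;> fin_cases j <;> simp [w12M, Matrix.mul_apply, Fin.sum_univ_three]

theorem det_w01M : (w01M : Matrix (Fin 3) (Fin 3) F).det = 1 := by
  rw [Matrix.det_fin_three]
  simp [w01M]

theorem det_w12M : (w12M : Matrix (Fin 3) (Fin 3) F).det = 1 := by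
  rw [Matrix.det_fin_three]
  simp [w12M]

theorem det_cycM : (cycM : Matrix (Fin 3) (Fin 3) F).det = 1 := by
  rw [Matrix.det_fin_three]
  simp [cycM]

theorem isU_w01M : IsU bar (w01M : Matrix (Fin 3) (Fin 3) F) := by
  unfold IsU
  ext i j
  fin_cases i <;> fin_cases j <;> simp [w01M, Matrix.mul_apply, Fin.sum_univ_three]

theorem isU_w12M : IsU bar (w12M : Matrix (Fin 3) (Fin 3) F) := by
  unfold IsU
  ext i j
  fin_cases i <;> fin_cases j <;> simp [w12M, Matrix.mul_apply, Fin.sum_univ_three]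

theorem isU_cycM : IsU bar (cycM : Matrix (Fin 3) (Fin 3) F) := by
  unfold IsU
  ext i j
  fin_cases i <;> fin_cases j <;> simp [cycM, Matrix.mul_apply, Fin.sum_univ_three]

/-- `w01M` as an element of `SU_3(q)` -/
def w01 : ↥(Cfsg.SU 3 F q) := ⟨⟨w01M, det_w01M⟩, (mem_SU_iff_isU bar hbar _).2 (isU_w01M bar)⟩

/-- `w12M` as an element of `SU_3(q)` -/
def w12 : ↥(Cfsg.SU 3 F q) := ⟨⟨w12M, det_w12M⟩, (mem_SU_iff_isU bar hbar _).2 (isU_w12M bar)⟩

/-- `cycM` as an element of `SU_3(q)` -/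
def cyc : ↥(Cfsg.SU 3 F q) := ⟨⟨cycM, det_cycM⟩, (mem_SU_iff_isU bar hbar _).2 (isU_cycM bar)⟩

@[simp] theorem w01_val : ((w01 bar hbar : ↥(Cfsg.SU 3 F q)).1).1 = w01M := rfl
@[simp] theorem w12_val : ((w12 bar hbar : ↥(Cfsg.SU 3 F q)).1).1 = w12M := rfl
@[simp] theorem cyc_val : ((cyc bar hbar : ↥(Cfsg.SU 3 F q)).1).1 = cycM := rfl

/-- equality in `SU_3(q)` is equality of matrices -/
theorem SU_ext {g h : ↥(Cfsg.SU 3 F q)} (e : (g.1).1 = (h.1).1) : g = h :=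
  Subtype.ext (Subtype.ext e)

theorem SU_mul_val (g h : ↥(Cfsg.SU 3 F q)) : ((g * h).1).1 = (g.1).1 * (h.1).1 := rfl

theorem SU_one_val : (((1 : ↥(Cfsg.SU 3 F q))).1).1 = 1 := rfl

theorem cyc_eq : cyc bar hbar = w01 bar hbar * w12 bar hbar :=
  SU_ext (by rw [SU_mul_val, w01_val, w12_val, cyc_val, w01M_mul_w12M])

theorem w01_sq : w01 bar hbar ^ 2 = 1 := by
  rw [sq]
  exact SU_ext (by rw [SU_mul_val, w01_val, w01M_sq, SU_one_val])

theorem w12_sq : w12 bar hbar ^ 2 = 1 := by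
  rw [sq]
  exact SU_ext (by rw [SU_mul_val, w12_val, w12M_sq, SU_one_val])

include hbar in
theorem mul_bar_eq_one_of_mem_nrm {a : Fˣ} (ha : a ∈ nrm F q) : (a : F) * bar a = 1 := by
  rw [hbar, ← pow_succ', ← Units.val_pow_eq_pow_val, mem_nrm.1 ha, Units.val_one]

/-- `diag(a, b, (ab)⁻¹)` in `SL_3` -/
def dgSL (a b : Fˣ) : Matrix.SpecialLinearGroup (Fin 3) F :=
  ⟨dgM (a : F) (b : F) (((a * b)⁻¹ : Fˣ) : F), by
    rw [det_dgM, ← Units.val_mul, ← Units.val_mul, mul_inv_cancel, Units.val_one]⟩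

theorem dgSL_val (a b : Fˣ) :
    (dgSL a b : Matrix.SpecialLinearGroup (Fin 3) F).1 =
      dgM (a : F) (b : F) (((a * b)⁻¹ : Fˣ) : F) := rfl

include hbar in
theorem dgSL_mem {a b : Fˣ} (ha : a ∈ nrm F q) (hb : b ∈ nrm F q) : dgSL a b ∈ Cfsg.SU 3 F q := by
  rw [mem_SU_iff_isU bar hbar, dgSL_val]
  exact isU_dgM bar _ _ _ (mul_bar_eq_one_of_mem_nrm bar hbar ha) (mul_bar_eq_one_of_mem_nrm bar hbar hb)
    (mul_bar_eq_one_of_mem_nrm bar hbar ((nrm F q).inv_mem ((nrm F q).mul_mem ha hb)))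

/-- `(a, b) ↦ diag(a, b, (ab)⁻¹)` from pairs of norm one elements to `SU_3(q)` -/
def dgHom : ↥(nrm F q) × ↥(nrm F q) →* ↥(Cfsg.SU 3 F q) where
  toFun x := ⟨dgSL (x.1 : Fˣ) (x.2 : Fˣ), dgSL_mem bar hbar x.1.2 x.2.2⟩
  map_one' := by
    apply SU_ext
    show dgM _ _ _ = (1 : Matrix (Fin 3) (Fin 3) F)
    simp [dgM_one]
  map_mul' x y := by
    apply SU_ext
    show dgM _ _ _ = dgM _ _ _ * dgM _ _ _
    rw [dgM_mul]
    simp only [Prod.fst_mul, Prod.snd_mul, Subgroup.coe_mul, Units.val_mul]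
    congr 1
    simp only [← Units.val_mul]
    congr 1
    rw [← _root_.mul_inv, mul_mul_mul_comm]

theorem dgHom_val (x : ↥(nrm F q) × ↥(nrm F q)) :
    ((dgHom bar hbar x).1).1 =
      dgM ((x.1 : Fˣ) : F) ((x.2 : Fˣ) : F) ((((x.1 : Fˣ) * (x.2 : Fˣ))⁻¹ : Fˣ) : F) := rfl

/-- the diagonal torus of `SU_3(q)`, of order `(q + 1) ^ 2` -/
def torus : Subgroup ↥(Cfsg.SU 3 F q) := (dgHom bar hbar).range

/-- the group `torus : ⟨cyc⟩`, of order `3 (q + 1) ^ 2` -/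
def monoP : Subgroup ↥(Cfsg.SU 3 F q) := torus bar hbar ⊔ Subgroup.zpowers (cyc bar hbar)

/-- `Good τ P`: the derived subgroup of the preimage of `P` meets the kernel of `τ` trivially -/
def Good {Γ G : Type*} [Group Γ] [Group G] (τ : Γ →* G) (P : Subgroup G) : Prop :=
  τ.ker ⊓ ⁅P.comap τ, P.comap τ⁆ = ⊥

end Cfsg.Agent.Helper71.PsuA
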