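import Mathlib

/-!
# S2089 block A (`n = 3`), `p'`-part: arithmetic of `|SU_3(q)| = q^3 (q^2 - 1) (q^3 + 1)`
-/

set_option autoImplicit false

namespace Cfsg.Agent.Helper71.PsuA

/-- divisibility of integers by a natural prime: Euclid -/
theorem int_prime_dvd_mul {r : ℕ} (hr : r.Prime) {a b : ℤ} (h : (r : ℤ) ∣ a * b) :
    (r : ℤ) ∣ a ∨ (r : ℤ) ∣ b :=
  (Nat.prime_iff_prime_int.1 hr).dvd_or_dvd h

theorem int_prime_not_dvd_one {r : ℕ} (hr : r.Prime) : ¬ (r : ℤ) ∣ 1 := by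
  intro h
  have : (r : ℤ) ∣ ((1 : ℕ) : ℤ) := by simpa using h
  rw [Int.natCast_dvd_natCast] at this
  exact hr.one_lt.ne' (Nat.dvd_one.1 this)

theorem int_prime_dvd_three {r : ℕ} (hr : r.Prime) (h : (r : ℤ) ∣ 3) : r = 3 := by
  have : (r : ℤ) ∣ ((3 : ℕ) : ℤ) := by simpa using h
  rw [Int.natCast_dvd_natCast] at this
  exact (Nat.prime_dvd_prime_iff_eq hr Nat.prime_three).1 this

/-- case (i): a prime `r ≠ 3` dividing `q^2 - q + 1` is odd and prime to `q^2 (q^2 - 1) (q^2 + 1)` -/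
theorem arith_i {r : ℕ} (hr : r.Prime) (Q : ℤ) (h : (r : ℤ) ∣ Q ^ 2 - Q + 1) (h3 : r ≠ 3) :
    r ≠ 2 ∧ ¬ (r : ℤ) ∣ Q ^ 2 ∧ ¬ (r : ℤ) ∣ Q ^ 2 - 1 ∧ ¬ (r : ℤ) ∣ Q ^ 2 + 1 := by
  have hQ : ¬ (r : ℤ) ∣ Q := by
    intro hd
    apply int_prime_not_dvd_one hr
    have : (1 : ℤ) = (Q ^ 2 - Q + 1) - Q * (Q - 1) := by ring
    rw [this]
    exact dvd_sub h (Dvd.dvd.mul_right hd _)
  refine ⟨?_, ?_, ?_, ?_⟩
  · rintro rfl
    have he : Even (Q * (Q - 1)) := by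
      have := Int.even_mul_succ_self (Q - 1)
      rw [sub_add_cancel, mul_comm] at this
      exact this
    obtain ⟨t, ht⟩ := he
    obtain ⟨c, hc⟩ := h
    have : Q ^ 2 - Q + 1 = Q * (Q - 1) + 1 := by ring
    rw [this, ht] at hc
    push_cast at hc
    omega
  · intro hd
    rw [sq] at hd
    rcases int_prime_dvd_mul hr hd with h' | h' <;> exact hQ h'
  · intro hd
    have : Q ^ 2 - 1 = (Q - 1) * (Q + 1) := by ring
    rw [this] at hd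
    rcases int_prime_dvd_mul hr hd with h' | h'
    · apply int_prime_not_dvd_one hr
      have : (1 : ℤ) = (Q ^ 2 - Q + 1) - Q * (Q - 1) := by ring
      rw [this]
      exact dvd_sub h (Dvd.dvd.mul_left h' _)
    · apply h3
      apply int_prime_dvd_three hr
      have : (3 : ℤ) = (Q ^ 2 - Q + 1) - (Q + 1) * (Q - 2) := by ring
      rw [this]
      exact dvd_sub h (Dvd.dvd.mul_right h' _)
  · intro hd
    apply hQ
    have : Q = (Q ^ 2 + 1) - (Q ^ 2 - Q + 1) := by ring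
    rw [this]
    exact dvd_sub hd h

/-- case (ii): a prime dividing `q^2 - 1`, other than `3 ∣ q + 1`, does not divide `q^2 - q + 1` -/
theorem arith_ii {r : ℕ} (hr : r.Prime) (Q : ℤ) (h : (r : ℤ) ∣ Q ^ 2 - 1)
    (h3 : ¬ (r = 3 ∧ (3 : ℤ) ∣ Q + 1)) : ¬ (r : ℤ) ∣ Q ^ 2 - Q + 1 := by
  intro hd
  have : Q ^ 2 - 1 = (Q - 1) * (Q + 1) := by ring
  rw [this] at h
  rcases int_prime_dvd_mul hr h with h' | h'
  · apply int_prime_not_dvd_one hr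
    have : (1 : ℤ) = (Q ^ 2 - Q + 1) - Q * (Q - 1) := by ring
    rw [this]
    exact dvd_sub hd (Dvd.dvd.mul_left h' _)
  · have h3' : r = 3 := by
      apply int_prime_dvd_three hr
      have : (3 : ℤ) = (Q ^ 2 - Q + 1) - (Q + 1) * (Q - 2) := by ring
      rw [this]
      exact dvd_sub hd (Dvd.dvd.mul_right h' _)
    apply h3
    refine ⟨h3', ?_⟩
    subst h3'
    exact_mod_cast h'

/-- the remaining primes do not divide `q^3 (q^2 - 1) (q^3 + 1)` -/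
theorem arith_rest {r : ℕ} (hr : r.Prime) (Q : ℤ) (hQ : ¬ (r : ℤ) ∣ Q)
    (hi : ¬ ((r : ℤ) ∣ Q ^ 2 - Q + 1 ∧ r ≠ 3))
    (hii : ¬ ((r : ℤ) ∣ Q ^ 2 - 1 ∧ ¬ (r = 3 ∧ (3 : ℤ) ∣ Q + 1)))
    (hiii : ¬ (r = 3 ∧ (3 : ℤ) ∣ Q + 1)) : ¬ (r : ℤ) ∣ Q ^ 3 * (Q ^ 2 - 1) * (Q ^ 3 + 1) := by
  intro hd
  have k1 : ¬ (r : ℤ) ∣ Q ^ 2 - 1 := fun h => hii ⟨h, hiii⟩
  have k2 : ¬ (r : ℤ) ∣ Q ^ 2 - Q + 1 := by
    intro h
    have h3 : r = 3 := by
      by_contra hne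
      exact hi ⟨h, hne⟩
    apply hiii
    refine ⟨h3, ?_⟩
    subst h3
    have h9 : ((3 : ℕ) : ℤ) ∣ (Q + 1) * (Q + 1) := by
      have : (Q + 1) * (Q + 1) = (Q ^ 2 - Q + 1) + 3 * Q := by ring
      rw [this]
      exact dvd_add h (by push_cast; exact Dvd.intro _ rfl)
    rcases int_prime_dvd_mul Nat.prime_three h9 with h' | h' <;> exact_mod_cast h'
  rcases int_prime_dvd_mul hr hd with h' | h'
  · rcases int_prime_dvd_mul hr h' with h'' | h''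
    · have : Q ^ 3 = Q * (Q * Q) := by ring
      rw [this] at h''
      rcases int_prime_dvd_mul hr h'' with a | a
      · exact hQ a
      · rcases int_prime_dvd_mul hr a with b | b <;> exact hQ b
    · exact k1 h''
  · have : Q ^ 3 + 1 = (Q + 1) * (Q ^ 2 - Q + 1) := by ring
    rw [this] at h'
    rcases int_prime_dvd_mul hr h' with a | a
    · apply k1
      have : Q ^ 2 - 1 = (Q - 1) * (Q + 1) := by ring
      rw [this]
      exact Dvd.dvd.mul_left a _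
    · exact k2 a

/-- the index of `ptH` -/
theorem arith_index_ptH (q N idx : ℕ) (hq : 2 ≤ q)
    (hN : (q + 1) * N = q ^ 3 * ((q + 1) * (q ^ 2 - 1) * (q ^ 3 + 1)))
    (hidx : idx * (q * ((q + 1) * (q ^ 2 - 1))) = N) : (idx : ℤ) = (q : ℤ) ^ 2 * ((q : ℤ) ^ 2 - q + 1) := by
  obtain ⟨t, rfl⟩ : ∃ t, q = t + 2 := ⟨q - 2, by omega⟩
  have e1 : (t + 2) ^ 2 - 1 = t ^ 2 + 4 * t + 3 := Nat.sub_eq_of_eq_add (by ring)
  rw [e1] at hN hidx
  subst hidx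
  have hN' : (((t + 2 + 1) * (idx * ((t + 2) * ((t + 2 + 1) * (t ^ 2 + 4 * t + 3)))) : ℕ) : ℤ) =
      (((t + 2) ^ 3 * ((t + 2 + 1) * (t ^ 2 + 4 * t + 3) * ((t + 2) ^ 3 + 1)) : ℕ) : ℤ) := by
    rw [hN]
  push_cast at hN' ⊢
  have hpos : ((t : ℤ) + 2 + 1) * (((t : ℤ) + 2) * (((t : ℤ) + 2 + 1) * ((t : ℤ) ^ 2 + 4 * t + 3))) ≠ 0 := by
    have : (0 : ℤ) ≤ t := Int.natCast_nonneg t
    positivity
  apply mul_right_cancel₀ hpos
  rw [← sub_eq_zero]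
  have := sub_eq_zero.2 hN'
  linear_combination this

/-- the index of `monoP` is prime to `3` when `3 ∣ q + 1` -/
theorem arith_index_monoP (q N idx : ℕ) (h3 : 3 ∣ q + 1)
    (hN : (q + 1) * N = q ^ 3 * ((q + 1) * (q ^ 2 - 1) * (q ^ 3 + 1)))
    (hidx : idx * (3 * (q + 1) ^ 2) = N) : ¬ 3 ∣ idx := by
  obtain ⟨s, hs⟩ : ∃ s, q = 3 * s + 2 := by
    obtain ⟨c, hc⟩ := h3
    exact ⟨c - 1, by omega⟩
  subst hs
  have e1 : (3 * s + 2) ^ 2 - 1 = 9 * s ^ 2 + 12 * s + 3 := Nat.sub_eq_of_eq_add (by ring)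
  rw [e1] at hN
  subst hidx
  have key : idx = (3 * s + 2) ^ 3 * (3 * s + 1) * (3 * (s ^ 2 + s) + 1) := by
    have hpos : 0 < (3 * s + 2 + 1) * (3 * (3 * s + 2 + 1) ^ 2) := by positivity
    apply Nat.eq_of_mul_eq_mul_right hpos
    have : idx * ((3 * s + 2 + 1) * (3 * (3 * s + 2 + 1) ^ 2)) =
        (3 * s + 2 + 1) * (idx * (3 * (3 * s + 2 + 1) ^ 2)) := by ring
    rw [this, hN]
    ring
  rw [key]
  intro hd
  rcases (Nat.Prime.dvd_mul Nat.prime_three).1 hd with h | h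
  · rcases (Nat.Prime.dvd_mul Nat.prime_three).1 h with h' | h'
    · have := Nat.Prime.dvd_of_dvd_pow Nat.prime_three h'
      omega
    · omega
  · omega

end Cfsg.Agent.Helper71.PsuA
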