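import Cfsg.Agent.Helper71.PsuA.Defs
import Cfsg.Agent.Helper71.PsuA.Arith
import Cfsg.Agent.S0278
import Cfsg.Agent.Helper14.PsuA_FREE
import Cfsg.Agent.Helper14.PsuA_FROB
import Cfsg.Agent.Helper2.PsuA_IDX
import Cfsg.Agent.Helper2.PsuA_REL
import Cfsg.Agent.Helper24.PsuA_M1
import Cfsg.Agent.Helper24.PsuA_M2
import Cfsg.Agent.Helper45.PsuA_LEQ
import Cfsg.Agent.Helper45.PsuA_TORC
import Cfsg.Agent.Helper46.PsuA_SL2SYL
import Cfsg.Agent.Helper49.PsuA_CQ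
import Cfsg.Agent.Helper49.PsuA_REDp
import Cfsg.Agent.Helper49.PsuA_TORG
import Cfsg.Agent.Helper49.PsuA_TORN
import Cfsg.Agent.Helper64.PsuA_CYCQ
import Cfsg.Agent.Helper64.PsuA_M3
import Cfsg.Agent.Helper64.PsuA_SL2AB
import Cfsg.Agent.Helper89.PsuA_TOWER

/-!
# S2089 block A (`n = 3`), `p'`-part: every finite stem extension of `SU_3(q)` whose kernel has order
prime to the characteristic `p` is an isomorphism (all `q`, including `q = 2, 3`)

`noStemP'_SU3 : NoStemP' ↥(Cfsg.SU 3 F q) p`.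

Proof, Sylow by Sylow (kernel `A` of prime order `r ≠ p` after (RED'); (IDX): find `P` with `r ∤ [G : P]` and
`A ⊓ ⁅τ⁻¹ P, τ⁻¹ P⁆ = ⊥`):
* `r ∣ q^2 - q + 1`, `r ≠ 3`: a Sylow `r`-subgroup acts freely on `F^3 ∖ 0` (FREE), hence is cyclic (FROB, S0040);
* `r ∣ q^2 - 1`, not `r = 3 ∣ q + 1`: `ptH ≅ GU_2(q)` of index `q^2 (q^2 - q + 1)`, tower `SL_2(q) ⊴ GU_2(q)`;
* `r = 3 ∣ q + 1`: the monomial group `monoP = (q+1)^2 : 3`;
* `r ∤ |G|`: trivial subgroup.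
Pieces farmed under WANTED #15135 (helpers 2, 14, 24, 45, 46, 49, 64, 89).
-/

set_option autoImplicit false

namespace Cfsg.Agent.Helper71.PsuA

open scoped commutatorElement
open Matrix Cfsg.Agent.Helper43.PsuM Cfsg.Agent.Helper37.SU3Inv

universe u

/-- a subgroup of prime order `r ≠ 2` has no `2`-torsion -/
theorem no_two_torsion {Γ : Type*} [Group Γ] (A : Subgroup Γ) (r : ℕ) (hr : r.Prime) (hr2 : r ≠ 2)
    (hA : Nat.card A = r) : ∀ a ∈ A, a ^ 2 = 1 → a = 1 := by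
  intro a ha h2
  have h1 : (⟨a, ha⟩ : A) ^ r = 1 := by
    rw [← hA]
    exact pow_card_eq_one'
  have h1' : a ^ r = 1 := by
    have := congrArg Subtype.val h1
    simpa using this
  have hcop : Nat.Coprime r 2 := (Nat.coprime_primes hr Nat.prime_two).2 hr2
  have hd1 : orderOf a ∣ r := orderOf_dvd_of_pow_eq_one h1'
  have hd2 : orderOf a ∣ 2 := orderOf_dvd_of_pow_eq_one h2
  have : orderOf a ∣ 1 := by
    have := Nat.dvd_gcd hd1 hd2
    rwa [hcop] at this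
  exact orderOf_eq_one_iff.1 (Nat.dvd_one.1 this)

section concrete

variable {F : Type u} [Field F] [Fintype F] {q : ℕ} (hF : Fintype.card F = q ^ 2)
  (bar : F →+* F) (hbar : ∀ x, bar x = x ^ q)

include hF in
/-- case (iii): the monomial group -/
theorem good_monoP {Γ : Type*} [Group Γ] [Finite Γ] (τ : Γ →* ↥(Cfsg.SU 3 F q))
    (hτ : Cfsg.IsStemExtension τ) (hA : Nat.card τ.ker = 3) : Good τ (monoP bar hbar) := by
  obtain ⟨hsurj, hc, -⟩ := hτ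
  have h2 : ∀ a ∈ τ.ker, a ^ 2 = 1 → a = 1 :=
    no_two_torsion τ.ker 3 Nat.prime_three (by norm_num) hA
  obtain ⟨x, y, hxy, hgen, w, hwx, hwy⟩ := Cfsg.Agent.Helper49.PsuA.exists_torus_gens hF bar hbar
  obtain ⟨hn1, hn2, hn3, hn4⟩ := Cfsg.Agent.Helper49.PsuA.cyc_normalizes bar hbar
  have hab := Cfsg.Agent.Helper24.PsuA.comap_comm_of_inverting τ hsurj hc (torus bar hbar) x y w hxy
    hgen hwx hwy h2
  refine Cfsg.Agent.Helper24.PsuA.good_of_delta τ hsurj hc (torus bar hbar) (monoP bar hbar)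
    le_sup_left (cyc bar hbar)
    (le_sup_right (a := torus bar hbar) (Subgroup.mem_zpowers _)) hn1 hn2 hn3 hab ?_
  intro t ht hfix a b ha hb
  have hcen := hn4 t ht hfix
  obtain ⟨b₁, hb₁⟩ := hsurj (w01 bar hbar)
  obtain ⟨b₂, hb₂⟩ := hsurj (w12 bar hbar)
  have e1 : a * b₁ = b₁ * a :=
    Cfsg.Agent.Helper64.PsuA.comm_lifts_of_sq τ hc t (w01 bar hbar) (hcen _) (w01_sq bar hbar) h2
      a b₁ ha hb₁
  have e2 : a * b₂ = b₂ * a :=
    Cfsg.Agent.Helper64.PsuA.comm_lifts_of_sq τ hc t (w12 bar hbar) (hcen _) (w12_sq bar hbar) h2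
      a b₂ ha hb₂
  have hz : (b₁ * b₂)⁻¹ * b ∈ τ.ker := by
    rw [MonoidHom.mem_ker, map_mul, map_inv, map_mul, hb₁, hb₂, hb, ← cyc_eq, inv_mul_cancel]
  have e3 : a * ((b₁ * b₂)⁻¹ * b) = ((b₁ * b₂)⁻¹ * b) * a :=
    (Subgroup.mem_center_iff.1 (hc hz) a)
  have hb' : b = b₁ * b₂ * ((b₁ * b₂)⁻¹ * b) := by group
  rw [hb']
  calc a * (b₁ * b₂ * ((b₁ * b₂)⁻¹ * b)) = (a * b₁) * b₂ * ((b₁ * b₂)⁻¹ * b) := by group
    _ = b₁ * (a * b₂) * ((b₁ * b₂)⁻¹ * b) := by rw [e1]; group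
    _ = b₁ * b₂ * (a * ((b₁ * b₂)⁻¹ * b)) := by rw [e2]; group
    _ = b₁ * b₂ * ((b₁ * b₂)⁻¹ * b) * a := by rw [e3]; group

include hF in
/-- case (ii): the stabiliser `GU_2(q)` of a nonisotropic point -/
theorem good_ptH (p : ℕ) [Fact p.Prime] [CharP F p] (r : ℕ) (hr : r.Prime) (hrp : r ≠ p)
    {Γ : Type*} [Group Γ] [Finite Γ] (τ : Γ →* ↥(Cfsg.SU 3 F q))
    (hτ : Cfsg.IsStemExtension τ) (hA : Nat.card τ.ker = r) : Good τ (ptH bar hbar) := by
  obtain ⟨K, _, _, _, ⟨e⟩⟩ := Cfsg.Agent.Helper45.PsuA.exists_ptL_equiv hF bar hbar p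
  obtain ⟨P, hPL, hidx, hP⟩ :=
    Cfsg.Agent.Helper46.PsuA.exists_sylow_of_equiv_SL2 (ptL bar hbar) p e r hr hrp
  have hgP := Cfsg.Agent.Helper49.PsuA.good_of_cyclic_or_quaternion τ hτ P hP
  have hgL := Cfsg.Agent.Helper2.PsuA.good_of_relIndex τ hτ.1 hτ.2.1 r hr hA (ptL bar hbar) P hPL
    hidx hgP
  obtain ⟨g₀, hg₀⟩ := Cfsg.Agent.Helper64.PsuA.exists_gen_mod_ker (detGU (F := F) (q := q))
  refine Cfsg.Agent.Helper89.PsuA.good_tower τ hτ.1 hτ.2.1 r hr hA (ptL bar hbar) (ptH bar hbar)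
    ?_ ?_ (beta bar hbar g₀) ⟨g₀, rfl⟩ ?_ p ?_
    (Cfsg.Agent.Helper64.PsuA.pow_mem_commutator_of_equiv_SL2 (ptL bar hbar) p e) hgL
  · rintro _ ⟨a, -, rfl⟩
    exact ⟨a, rfl⟩
  · rintro _ ⟨h, rfl⟩ _ ⟨l, hl, rfl⟩
    refine ⟨h * l * h⁻¹, ?_, by simp⟩
    exact (inferInstance : (detGU (F := F) (q := q)).ker.Normal).conj_mem l hl h
  · rintro _ ⟨h, rfl⟩
    obtain ⟨k, l, hl, e⟩ := hg₀ h
    exact ⟨k, beta bar hbar l, ⟨l, hl, rfl⟩, by rw [e, map_mul, map_pow]⟩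
  · intro hd
    exact hrp ((Nat.prime_dvd_prime_iff_eq hr (Fact.out)).1 hd)

include hF in
/-- the order of `SU_3(q)` -/
theorem card_SU3 :
    (q + 1) * Nat.card ↥(Cfsg.SU 3 F q) = q ^ 3 * ((q + 1) * (q ^ 2 - 1) * (q ^ 3 + 1)) := by
  have h := Cfsg.Agent.S0278.result hF 3 (by norm_num)
  rw [h]
  simp [Finset.prod_range_succ]

include hF in
theorem two_le_q : 2 ≤ q := by
  by_contra hlt
  have h1 : 1 < Fintype.card F := Fintype.one_lt_card
  rw [hF] at h1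
  have : q ≤ 1 := by omega
  interval_cases q <;> simp at h1

include hF in
/-- the index of `ptH` -/
theorem index_ptH : ((ptH bar hbar).index : ℤ) = (q : ℤ) ^ 2 * ((q : ℤ) ^ 2 - q + 1) := by
  have hcard : Nat.card (ptH bar hbar) = q * ((q + 1) * (q ^ 2 - 1)) := by
    rw [← Cfsg.Agent.Helper37.GU2S2.card_GU2 hF]
    exact (Nat.card_congr (MonoidHom.ofInjective (beta_injective bar hbar)).toEquiv).symm
  have h1 := Subgroup.index_mul_card (ptH bar hbar)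
  rw [hcard] at h1
  exact arith_index_ptH q _ _ (two_le_q hF) (card_SU3 hF) h1

include hF in
/-- the index of `monoP` -/
theorem index_monoP (h3 : 3 ∣ q + 1) : ¬ 3 ∣ (monoP bar hbar).index := by
  have h1 := Subgroup.index_mul_card (monoP bar hbar)
  rw [Cfsg.Agent.Helper45.PsuA.card_monoP hF bar hbar] at h1
  exact arith_index_monoP q _ _ h3 (card_SU3 hF) h1

include hF in
/-- case (i): Sylow `r`-subgroups for `r ∣ q^2 - q + 1`, `r ≠ 3`, are cyclic -/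
theorem sylow_isCyclic (r : ℕ) [Fact r.Prime] (hr2 : r ≠ 2) (h0 : ¬ r ∣ q ^ 2)
    (h1 : ¬ r ∣ q ^ 2 - 1) (h2 : ¬ r ∣ q ^ 2 + 1) (P : Sylow r ↥(Cfsg.SU 3 F q)) :
    IsCyclic (P : Subgroup ↥(Cfsg.SU 3 F q)) := by
  have hr : r.Prime := Fact.out
  set R : Subgroup (Matrix.SpecialLinearGroup (Fin 3) F) :=
    (P : Subgroup ↥(Cfsg.SU 3 F q)).map (Cfsg.SU 3 F q).subtype with hRdef
  have hR : IsPGroup r R := P.2.map _
  have hcyc : IsCyclic R := by
    refine Cfsg.Agent.Helper14.PsuA.isCyclic_of_free r hr2 R hR ?_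
    intro g hg v hv hgv
    obtain ⟨k, hk⟩ := hR ⟨g, hg⟩
    have hk' : g ^ r ^ k = 1 := by
      have := congrArg Subtype.val hk
      simpa using this
    have hk'' : (g : Matrix (Fin 3) (Fin 3) F) ^ r ^ k = 1 := by
      have := congrArg (fun x : Matrix.SpecialLinearGroup (Fin 3) F => (x : Matrix (Fin 3) (Fin 3) F)) hk'
      simpa using this
    have := Cfsg.Agent.Helper14.PsuA.eq_one_of_fixed_vector r hr (by rwa [hF]) (by rwa [hF])
      (by rwa [hF]) (g : Matrix (Fin 3) (Fin 3) F) k hk'' v hv hgv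
    exact Subtype.ext this
  let e : (P : Subgroup ↥(Cfsg.SU 3 F q)) ≃* R :=
    (P : Subgroup ↥(Cfsg.SU 3 F q)).equivMapOfInjective _ (Subgroup.subtype_injective _)
  exact isCyclic_of_surjective e.symm e.symm.surjective

include hF in
/-- no stem extension of `SU_3(q)` has a kernel of prime order `r ≠ p` -/
theorem noStemP_SU3_of_ne (p : ℕ) [Fact p.Prime] [CharP F p] (r : ℕ) (hr : r.Prime) (hrp : r ≠ p) :
    NoStemP ↥(Cfsg.SU 3 F q) r := by
  haveI : Fact r.Prime := ⟨hr⟩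
  obtain ⟨bar, hbar⟩ := Cfsg.Agent.Helper45.GU.exists_bar hF
  have hq2 := two_le_q hF
  -- `r ∤ q`
  have hrq : ¬ r ∣ q := by
    intro hd
    apply hrp
    obtain ⟨n, hn⟩ := FiniteField.card F p
    have h1 : r ∣ p ^ (n : ℕ) := by
      rw [← hn.2, hF]
      exact Dvd.dvd.mul_right hd _ |>.trans (by rw [sq])
    exact (Nat.prime_dvd_prime_iff_eq hr hn.1).1 (hr.dvd_of_dvd_pow h1)
  have hrqZ : ¬ (r : ℤ) ∣ (q : ℤ) := by
    rwa [Int.natCast_dvd_natCast]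
  have cast1 : ((q ^ 2 - 1 : ℕ) : ℤ) = (q : ℤ) ^ 2 - 1 := by
    rw [Nat.cast_sub (Nat.one_le_pow _ _ (by omega))]
    push_cast
    ring
  by_cases hi : (r : ℤ) ∣ (q : ℤ) ^ 2 - q + 1 ∧ r ≠ 3
  · -- case (i)
    obtain ⟨a1, a2, a3, a4⟩ := arith_i hr (q : ℤ) hi.1 hi.2
    have b2 : ¬ r ∣ q ^ 2 := by
      intro h
      apply a2
      have := Int.natCast_dvd_natCast.2 h
      simpa using this
    have b3 : ¬ r ∣ q ^ 2 - 1 := by
      intro h
      apply a3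
      have := Int.natCast_dvd_natCast.2 h
      rwa [cast1] at this
    have b4 : ¬ r ∣ q ^ 2 + 1 := by
      intro h
      apply a4
      have := Int.natCast_dvd_natCast.2 h
      simpa using this
    obtain ⟨P⟩ : Nonempty (Sylow r ↥(Cfsg.SU 3 F q)) := inferInstance
    haveI := sylow_isCyclic hF r a1 b2 b3 b4 P
    refine Cfsg.Agent.Helper2.PsuA.noStemP_of_good r hr (P : Subgroup ↥(Cfsg.SU 3 F q))
      P.not_dvd_index ?_
    intro Γ _ _ τ hτ _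
    exact Cfsg.Agent.Helper49.PsuA.good_of_cyclic_or_quaternion τ hτ _ (Or.inl inferInstance)
  by_cases hii : (r : ℤ) ∣ (q : ℤ) ^ 2 - 1 ∧ ¬ (r = 3 ∧ (3 : ℤ) ∣ (q : ℤ) + 1)
  · -- case (ii)
    have a := arith_ii hr (q : ℤ) hii.1 hii.2
    refine Cfsg.Agent.Helper2.PsuA.noStemP_of_good r hr (ptH bar hbar) ?_ ?_
    · intro hd
      have hdZ : (r : ℤ) ∣ ((ptH bar hbar).index : ℤ) := Int.natCast_dvd_natCast.2 hd
      rw [index_ptH hF bar hbar] at hdZ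
      rcases int_prime_dvd_mul hr hdZ with h | h
      · rw [sq] at h
        rcases int_prime_dvd_mul hr h with h' | h' <;> exact hrqZ h'
      · exact a h
    · intro Γ _ _ τ hτ hA
      exact good_ptH hF bar hbar p r hr hrp τ hτ hA
  by_cases hiii : r = 3 ∧ (3 : ℤ) ∣ (q : ℤ) + 1
  · -- case (iii)
    obtain ⟨rfl, h3⟩ := hiii
    have h3' : 3 ∣ q + 1 := by
      have : ((3 : ℕ) : ℤ) ∣ ((q + 1 : ℕ) : ℤ) := by
        push_cast
        exact h3
      exact Int.natCast_dvd_natCast.1 this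
    refine Cfsg.Agent.Helper2.PsuA.noStemP_of_good 3 hr (monoP bar hbar)
      (index_monoP hF bar hbar h3') ?_
    intro Γ _ _ τ hτ hA
    exact good_monoP hF bar hbar τ hτ hA
  · -- `r` does not divide the order
    have hnd := arith_rest hr (q : ℤ) hrqZ hi hii hiii
    refine Cfsg.Agent.Helper2.PsuA.noStemP_of_good r hr ⊥ ?_ ?_
    · rw [Subgroup.index_bot]
      intro hd
      apply hnd
      have hN := card_SU3 hF
      have hdZ : (r : ℤ) ∣ (((q + 1) * Nat.card ↥(Cfsg.SU 3 F q) : ℕ) : ℤ) :=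
        Int.natCast_dvd_natCast.2 (Dvd.dvd.mul_left hd _)
      rw [hN] at hdZ
      push_cast at hdZ
      rw [cast1] at hdZ
      -- `r ∣ q^3 ((q+1)(q^2-1)(q^3+1))`
      have e : (q : ℤ) ^ 3 * (((q : ℤ) + 1) * ((q : ℤ) ^ 2 - 1) * ((q : ℤ) ^ 3 + 1)) =
          ((q : ℤ) + 1) * ((q : ℤ) ^ 3 * ((q : ℤ) ^ 2 - 1) * ((q : ℤ) ^ 3 + 1)) := by ring
      rw [e] at hdZ
      rcases int_prime_dvd_mul hr hdZ with h | h
      · -- `r ∣ q + 1` gives `r ∣ q^2 - 1`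
        have : (q : ℤ) ^ 3 * ((q : ℤ) ^ 2 - 1) * ((q : ℤ) ^ 3 + 1) =
            ((q : ℤ) + 1) * ((q : ℤ) ^ 3 * ((q : ℤ) - 1) * ((q : ℤ) ^ 3 + 1)) := by ring
        rw [this]
        exact Dvd.dvd.mul_right h _
      · exact h
    · intro Γ _ _ τ hτ _
      exact Cfsg.Agent.Helper49.PsuA.good_of_cyclic_or_quaternion τ hτ ⊥ (Or.inl inferInstance)

include hF in
/-- **Block A, `p'`-part**: every finite stem extension of `SU_3(q)` with kernel of order prime to the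
characteristic is an isomorphism. -/
theorem noStemP'_SU3 (p : ℕ) [Fact p.Prime] [CharP F p] : NoStemP' ↥(Cfsg.SU 3 F q) p :=
  Cfsg.Agent.Helper49.PsuA.noStemP'_of_forall_prime p
    (fun r hr hrp => noStemP_SU3_of_ne hF p r hr hrp)

end concrete

end Cfsg.Agent.Helper71.PsuA
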